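import Groth.Agent.AlgSpLib.EtaleLift
import Groth.Agent.AlgSpLib.ImmLocal
import Groth.Agent.AlgSpLib.CoprodOpen
import Groth.Agent.AlgSpLib.RepSpBase
import Groth.Agent.AlgSpLib.SheafDesc
import Groth.Agent.AlgSpRegLib.CutByApps
import Groth.Agent.S9881
import Groth.Agent.S10138
import Mathlib.CategoryTheory.Sites.LeftExact
import Mathlib.CategoryTheory.Sites.EpiMono

/-!
# Gluing a space to an etale space along an open subspace

The pushout of an open immersion and an etale morphism of algebraic spaces is an algebraic space,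
and forms an elementary distinguished square.
-/

set_option autoImplicit false
set_option backward.isDefEq.respectTransparency false
set_option backward.isDefEq.respectTransparency.types false
universe u
open CategoryTheory CategoryTheory.Limits AlgebraicGeometry Opposite AlgSp

namespace ElemGlueLib

open AlgSpLib

variable {S : Scheme.{u}}

/-- A morphism which lifts fppf locally around every point is locally surjective. -/
theorem isLocallySurjective_of_lifts {F G : Sp S} (f : F ⟶ G)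
    (h : ∀ (T : Over S) (ξ : (yon S).obj T ⟶ G) (t : T.left), ∃ (T' : Over S) (h : T' ⟶ T),
      Flat h.left ∧ LocallyOfFinitePresentation h.left ∧ t ∈ Set.range h.left ∧
      ∃ l : (yon S).obj T' ⟶ F, l ≫ f = (yon S).map h ≫ ξ) : Sheaf.IsLocallySurjective f := by
  refine ⟨fun {T} s => ?_⟩
  choose V hV h1 h2 h3 l hl using h T (yEq.symm s)
  refine GrothendieckTopology.superset_covering _ ?_ (ofArrows_mem_J hV h1 h2 fun t => ⟨t, h3 t⟩)
  rintro W g ⟨_, k, c, ⟨t⟩, rfl⟩
  refine ⟨yEq ((yon S).map k ≫ l t), ?_⟩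
  refine (yEq_comp _ f).symm.trans ?_
  rw [Category.assoc, hl, ← Functor.map_comp_assoc, yEq_map, Equiv.apply_symm_apply]

/-- Sections of a pushout lift locally to one of the two sheaves. -/
theorem exists_local_lift {C A B D : Sp S} {a : C ⟶ A} {b : C ⟶ B} {i : A ⟶ D} {k : B ⟶ D}
    (H : IsPushout a b i k) {T : Over S} (ξ : (yon S).obj T ⟶ D) (t : T.left) :
    ∃ (T' : Over S) (h : T' ⟶ T), Flat h.left ∧ LocallyOfFinitePresentation h.left ∧
      t ∈ Set.range h.left ∧ ((∃ l : (yon S).obj T' ⟶ A, l ≫ i = (yon S).map h ≫ ξ) ∨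
        (∃ l : (yon S).obj T' ⟶ B, l ≫ k = (yon S).map h ≫ ξ)) := by
  let F : ULift.{u} Bool → Sp S := fun x => match x with
    | ⟨false⟩ => A
    | ⟨true⟩ => B
  let m : ∀ x, F x ⟶ D := fun x => match x with
    | ⟨false⟩ => i
    | ⟨true⟩ => k
  let p : (∐ F) ⟶ D := Sigma.desc m
  have he : Epi p := by
    refine ⟨fun {Z} g g' e => H.hom_ext ?_ ?_⟩
    · have := congrArg (fun r => Sigma.ι F ⟨false⟩ ≫ r) e
      simpa [p, m] using this
    · have := congrArg (fun r => Sigma.ι F ⟨true⟩ ≫ r) e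
      simpa [p, m] using this
  haveI : Sheaf.IsLocallySurjective p := (Sheaf.isLocallySurjective_iff_epi p).2 he
  obtain ⟨V, h, h1, h2, h3, hl⟩ := exists_lift_of_isLocallySurjective p ξ
  obtain ⟨r, hr⟩ := h3 t
  obtain ⟨l₀, hl₀⟩ := hl t
  obtain ⟨x, hx⟩ := exists_mem_range_inj (Cofan.mk _ (Sigma.ι F)) (coproductIsCoproduct F) (Points.ofPt l₀ r)
  have hin : RepWith @IsOpenImmersion (Sigma.ι F x) :=
    repWith_mono (fun _ _ g (hg : IsOpenImmersion g ∧ IsClosedImmersion g) => hg.1)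
      (repWith_inj (Cofan.mk _ (Sigma.ι F)) (coproductIsCoproduct F) x)
  have sq := hin.rep.isPullback l₀
  have ho : IsOpenImmersion (hin.rep.snd l₀).left := hin.property _ _ _ sq
  have hmem : Points.schemeHomeo (V t) r ∈ Set.range (Points.map ((yon S).map (hin.rep.snd l₀))) := by
    rw [range_map_of_isPullback sq, Set.mem_preimage]
    rw [ofPt_comp_ofScheme] at hx
    exact hx
  obtain ⟨r', hr'⟩ := hmem
  obtain ⟨r', rfl⟩ := (Points.schemeHomeo _).surjective r'
  rw [Points.map_yon_map_apply] at hr'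
  refine ⟨hin.rep.pullback l₀, hin.rep.snd l₀ ≫ h t, ?_, ?_, ⟨r', ?_⟩, ?_⟩
  · rw [Over.comp_left]
    have := h1 t
    infer_instance
  · rw [Over.comp_left]
    have := h2 t
    infer_instance
  · rw [Over.comp_left, Scheme.Hom.comp_apply, (Points.schemeHomeo (V t)).injective hr', hr]
  · have key : hin.rep.fst l₀ ≫ m x = (yon S).map (hin.rep.snd l₀ ≫ h t) ≫ ξ := by
      rw [(yon S).map_comp_assoc, ← hl₀, ← Category.assoc, ← sq.w, Category.assoc, Sigma.ι_desc]
    revert key
    generalize hin.rep.fst l₀ = lx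
    revert lx
    rcases x with ⟨_ | _⟩
    · exact fun lx key => Or.inl ⟨lx, key⟩
    · exact fun lx key => Or.inr ⟨lx, key⟩

/-- The points of a pushout come from the two sheaves. -/
theorem points_cover {C A B D : Sp S} {a : C ⟶ A} {b : C ⟶ B} {i : A ⟶ D} {k : B ⟶ D}
    (H : IsPushout a b i k) (x : Points D) :
    x ∈ Set.range (Points.map i) ∨ x ∈ Set.range (Points.map k) := by
  obtain ⟨T, ξ, t, rfl⟩ := exists_ofPt_eq x
  obtain ⟨T', h, -, -, ⟨t', rfl⟩, hl | hl⟩ := exists_local_lift H ξ t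
  · obtain ⟨l, hl⟩ := hl
    exact Or.inl ⟨Points.ofPt l t', by rw [Points.map_ofPt, hl, ofPt_yon_comp]⟩
  · obtain ⟨l, hl⟩ := hl
    exact Or.inr ⟨Points.ofPt l t', by rw [Points.map_ofPt, hl, ofPt_yon_comp]⟩

/-- The pushout of an open immersion is an open immersion. -/
theorem openImmersion_of_isPushout {C A B D : Sp S} (hC : IsAlgSpace C) {a : C ⟶ A} {b : C ⟶ B}
    {i : A ⟶ D} {k : B ⟶ D} (H : IsPushout a b i k) (ha : RepWith @IsOpenImmersion a) :
    RepWith @IsOpenImmersion k := by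
  haveI := mono_of_openImmersion ha
  haveI : Mono k := Adhesive.mono_of_isPushout_of_mono_left H
  have sqP : IsPullback a b i k := Adhesive.isPullback_of_isPushout_of_mono_left H
  have hpre : Set.range (Points.map a) = Points.map i ⁻¹' Set.range (Points.map k) :=
    range_map_of_isPullback sqP.flip
  have hoa : IsOpen (Set.range (Points.map a)) :=
    (isOpenMap_map_of_isEtaleMor hC (isEtaleMor_of_repWith
      (repWith_mono (fun _ _ g (_ : IsOpenImmersion g) => (inferInstance : Etale g)) ha))).isOpen_range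
  let W := Set.range (Points.map k)
  have hW : IsOpen W := by
    refine Points.isOpen_iff.2 fun T ξ => isOpen_iff_forall_mem_open.2 fun t ht => ?_
    obtain ⟨T', h, h1, h2, ⟨t', rfl⟩, hl⟩ := exists_local_lift H ξ t
    have hh : ∀ y, Points.ofPt ((yon S).map h ≫ ξ) y = Points.ofPt ξ (h.left y) :=
      fun y => ofPt_yon_comp h ξ y
    refine ⟨h.left '' (Points.ofPt ((yon S).map h ≫ ξ) ⁻¹' W), ?_, h.left.isOpenMap _ ?_, ⟨t', ?_, rfl⟩⟩
    · rintro _ ⟨y, hy, rfl⟩
      rw [Set.mem_preimage, hh] at hy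
      exact hy
    · rcases hl with ⟨l, hl⟩ | ⟨l, hl⟩
      · have e : Points.ofPt ((yon S).map h ≫ ξ) ⁻¹' W = Points.ofPt l ⁻¹' Set.range (Points.map a) := by
          ext y
          rw [hpre, Set.mem_preimage, Set.mem_preimage, Set.mem_preimage, ← hl, Points.map_ofPt]
        rw [e]
        exact hoa.preimage (Points.continuous_ofPt l)
      · have e : Points.ofPt ((yon S).map h ≫ ξ) ⁻¹' W = Set.univ :=
          Set.eq_univ_of_forall fun y => ⟨Points.ofPt l y, by rw [Points.map_ofPt, hl]⟩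
        rw [e]
        exact isOpen_univ
    · rw [Set.mem_preimage, hh]
      exact ht
  have hr := repWith_openSubι D hW
  obtain ⟨g, hg⟩ := (exists_factor_iff hr k).2 (by rw [range_openSubι])
  haveI : Mono g := mono_of_mono_fac hg
  haveI : Sheaf.IsLocallySurjective g := isLocallySurjective_of_lifts g fun T ξ t => by
    obtain ⟨T', h, h1, h2, h3, hl⟩ := exists_local_lift H (ξ ≫ openSubι D W) t
    refine ⟨T', h, h1, h2, h3, ?_⟩
    rcases hl with ⟨l, hl⟩ | ⟨l, hl⟩
    · obtain ⟨c, hc⟩ := (exists_factor_iff ha l).2 (by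
        rw [← range_ofPt, hpre]
        rintro _ ⟨y, rfl⟩
        rw [Set.mem_preimage, Points.map_ofPt, hl]
        exact (exists_lift_openSub _).1 ⟨(yon S).map h ≫ ξ, Category.assoc _ _ _⟩ y)
      refine ⟨c ≫ b, ?_⟩
      rw [← cancel_mono (openSubι D W), Category.assoc, hg, Category.assoc, ← H.w, ← Category.assoc, hc, hl,
        Category.assoc]
    · refine ⟨l, ?_⟩
      rw [← cancel_mono (openSubι D W), Category.assoc, hg, hl, Category.assoc]
  haveI := isIso_of_mono_isLocallySurjective g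
  rw [← hg]
  exact repWith_comp (repWith_of_isIso g) hr

/-- A sheaf covered by open subspaces is a space. -/
theorem isAlgSpace_of_opens {F : Sp S} {κ : Type u} {X : κ → Sp S} (hX : ∀ i, IsAlgSpace (X i))
    (m : ∀ i, X i ⟶ F) (hm : ∀ i, RepWith @IsOpenImmersion (m i))
    (hs : ∀ x : Points F, ∃ i, x ∈ Set.range (Points.map (m i))) : IsAlgSpace F := by
  have hc := coproductIsCoproduct X
  have hsp : IsAlgSpace (∐ X) := Groth.Agent.S9881.result S X hX (Cofan.mk _ (Sigma.ι X)) hc
  have he : RepWith @Etale (Sigma.desc m) := by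
    refine repWith_of_source_cover (Sigma.ι X)
      (fun i => repWith_mono (fun _ _ g (hg : IsOpenImmersion g ∧ IsClosedImmersion g) => hg.1)
        (repWith_inj (Cofan.mk _ (Sigma.ι X)) hc i))
      (exists_mem_range_inj (Cofan.mk _ (Sigma.ι X)) hc) fun i => ?_
    rw [Sigma.ι_desc]
    exact repWith_mono (fun _ _ g (_ : IsOpenImmersion g) => (inferInstance : Etale g)) (hm i)
  refine isAlgSpace_of_space_atlas hsp _ he ((repWith_surjective_iff he.rep).2 fun x => ?_)
  obtain ⟨i, y, rfl⟩ := hs x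
  exact ⟨Points.map (Sigma.ι X i) y, by rw [← Points.map_comp, Sigma.ι_desc]⟩

/-- Being etale can be checked on open subspaces covering the source. -/
theorem isEtaleMor_of_opens {F G : Sp S} {g : F ⟶ G} {κ : Type u} {X : κ → Sp S}
    (m : ∀ i, X i ⟶ F) (hm : ∀ i, RepWith @IsOpenImmersion (m i))
    (hs : ∀ x : Points F, ∃ i, x ∈ Set.range (Points.map (m i)))
    (he : ∀ i, IsEtaleMor (m i ≫ g)) : IsEtaleMor g := by
  intro U φ hφ
  refine repWith_of_source_cover (fun i => (yon S).map ((hm i).rep.snd φ))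
    (fun i => repWith_of_isPullback ((hm i).rep.isPullback φ) (hm i)) (fun x => ?_) fun i => ?_
  · obtain ⟨i, hi⟩ := hs (Points.map φ x)
    exact ⟨i, by rw [range_map_of_isPullback ((hm i).rep.isPullback φ)]; exact hi⟩
  · rw [← Category.assoc, ← ((hm i).rep.isPullback φ).w, Category.assoc]
    exact he i _ (repWith_of_isPullback ((hm i).rep.isPullback φ).flip hφ)

theorem isAlgSpace_and_isEtaleMor_of_iso {P P' T : Sp S} {A D : Sp S} {f : A ⟶ D} {ζ : T ⟶ D}
    {x : P ⟶ A} {y : P ⟶ T} {x' : P' ⟶ A} {y' : P' ⟶ T} (sq : IsPullback x y f ζ)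
    (sq' : IsPullback x' y' f ζ) (hP : IsAlgSpace P) (he : IsEtaleMor y) :
    IsAlgSpace P' ∧ IsEtaleMor y' := by
  let e := sq'.isoIsPullback _ _ sq
  refine ⟨isAlgSpace_of_representable hP e.hom (repWith_of_isIso (P := @Etale) e.hom).rep, ?_⟩
  rw [← sq'.isoIsPullback_hom_snd _ _ sq]
  exact isEtaleMor_comp he (isEtaleMor_of_isIso' _)

/-- The pushout of an open immersion and an etale morphism: the cartesian square, the open immersion, and
the etale morphism, representable by spaces. -/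
theorem main {U V V' W : Sp S} (hU : IsAlgSpace U) (hV : IsAlgSpace V) (hV' : IsAlgSpace V') {jV : V' ⟶ V}
    (hjV : RepWith @IsOpenImmersion jV) {f' : V' ⟶ U} (het : IsEtaleMor f') {f : V ⟶ W} {j : U ⟶ W}
    (sq₀ : IsPushout jV f' f j) :
    RepWith @IsOpenImmersion j ∧ IsPullback jV f' f j ∧ IsAlgSpace W ∧ IsEtaleMor f ∧
      ∀ ⦃X : Sp S⦄ (v₁ v₂ : X ⟶ V), v₁ ≫ f = v₂ ≫ f →
        (∀ x : Points X, Points.map (v₁ ≫ f) x ∉ Set.range (Points.map j)) → v₁ = v₂ := by
  haveI := mono_of_openImmersion hjV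
  have hj : RepWith @IsOpenImmersion j := openImmersion_of_isPushout hV' sq₀ hjV
  have sqj : IsPullback jV f' f j := Adhesive.isPullback_of_isPushout_of_mono_left sq₀
  -- the kernel pair of `f`
  let R := pullback f' f'
  have hR : IsAlgSpace R := isAlgSpace_pullback hV' hV' hU f' f'
  let d : V' ⟶ R := pullback.diagonal f'
  have hd : RepWith @IsOpenImmersion d := openImmersion_diagonal_of_isEtaleMor hV' hU het
  obtain ⟨E, ρ, ι, HE⟩ : ∃ (E : Sp S) (ρ : R ⟶ E) (ι : V ⟶ E), IsPushout d jV ρ ι :=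
    ⟨_, _, _, IsPushout.of_hasPushout d jV⟩
  have hι : RepWith @IsOpenImmersion ι := openImmersion_of_isPushout hV' HE hd
  have hρ : RepWith @IsOpenImmersion ρ := openImmersion_of_isPushout hV' HE.flip hjV
  have hEcov := points_cover HE
  let X₂ : ULift.{u} Bool → Sp S := fun b => match b with
    | ⟨false⟩ => R
    | ⟨true⟩ => V
  let m₂ : ∀ b, X₂ b ⟶ E := fun b => match b with
    | ⟨false⟩ => ρ
    | ⟨true⟩ => ι
  have hX₂ : ∀ b, IsAlgSpace (X₂ b) := by rintro ⟨_ | _⟩ <;> assumption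
  have hm₂ : ∀ b, RepWith @IsOpenImmersion (m₂ b) := by rintro ⟨_ | _⟩ <;> assumption
  have hs₂ : ∀ x : Points E, ∃ b, x ∈ Set.range (Points.map (m₂ b)) := fun x =>
    (hEcov x).elim (fun h => ⟨⟨false⟩, h⟩) (fun h => ⟨⟨true⟩, h⟩)
  have hE : IsAlgSpace E := isAlgSpace_of_opens hX₂ m₂ hm₂ hs₂
  have hd₁ : d ≫ pullback.fst f' f' = 𝟙 V' := pullback.diagonal_fst _
  have hd₂ : d ≫ pullback.snd f' f' = 𝟙 V' := pullback.diagonal_snd _
  obtain ⟨e₁, he₁ρ, he₁ι⟩ : ∃ e₁ : E ⟶ V, ρ ≫ e₁ = pullback.fst f' f' ≫ jV ∧ ι ≫ e₁ = 𝟙 V :=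
    ⟨HE.desc (pullback.fst f' f' ≫ jV) (𝟙 V) (by rw [reassoc_of% hd₁, Category.comp_id]),
      HE.inl_desc _ _ _, HE.inr_desc _ _ _⟩
  obtain ⟨e₂, he₂ρ, he₂ι⟩ : ∃ e₂ : E ⟶ V, ρ ≫ e₂ = pullback.snd f' f' ≫ jV ∧ ι ≫ e₂ = 𝟙 V :=
    ⟨HE.desc (pullback.snd f' f' ≫ jV) (𝟙 V) (by rw [reassoc_of% hd₂, Category.comp_id]),
      HE.inl_desc _ _ _, HE.inr_desc _ _ _⟩
  have hee : e₂ ≫ f = e₁ ≫ f := HE.hom_ext
    (by rw [reassoc_of% he₂ρ, reassoc_of% he₁ρ, sq₀.w, pullback.condition_assoc])
    (by rw [reassoc_of% he₂ι, reassoc_of% he₁ι])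
  have back : IsPullback ρ (pullback.fst f' f') e₁ jV := by
    refine isPullback_of_forall_existsUnique he₁ρ fun T a b e => ?_
    haveI := mono_of_openImmersion hρ
    obtain ⟨l, hl⟩ := (exists_factor_iff hρ a).2 (by
      rintro _ ⟨x, rfl⟩
      rcases hEcov (Points.map a x) with h | ⟨v, hv⟩
      · exact h
      · have h1 : v = Points.map jV (Points.map b x) := by
          rw [← Points.map_comp, ← e, Points.map_comp, ← hv, ← Points.map_comp, he₁ι, Points.map_id]
        refine ⟨Points.map d (Points.map b x), ?_⟩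
        rw [← hv, h1, ← Points.map_comp d ρ, ← Points.map_comp jV ι, HE.w])
    refine ⟨l, ⟨hl, ?_⟩, fun y hy => ?_⟩
    · rw [← cancel_mono jV, Category.assoc, ← he₁ρ, ← Category.assoc, hl, e]
    · rw [← cancel_mono ρ, hy.1, hl]
  have top : IsPushout ρ (pullback.snd f' f') e₂ jV := by
    have s : IsPushout (d ≫ pullback.snd f' f') jV jV (ι ≫ e₂) := by
      rw [hd₂, he₂ι]
      exact IsPushout.of_horiz_isIso ⟨by rw [Category.id_comp, Category.comp_id]⟩
    exact (IsPushout.of_left s he₂ρ.symm HE).flip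
  have sqK : IsPullback e₂ e₁ f f :=
    ((Adhesive.van_kampen sq₀ ρ (pullback.snd f' f') e₂ jV (pullback.fst f' f') e₁ f' f back
      (IsPullback.of_hasPullback f' f').flip ⟨hee⟩ sqj.toCommSq top.toCommSq).1 top).1
  have he₁ : IsEtaleMor e₁ := by
    refine isEtaleMor_of_opens m₂ hm₂ hs₂ ?_
    rintro ⟨_ | _⟩
    · change IsEtaleMor (ρ ≫ e₁)
      rw [he₁ρ]
      exact isEtaleMor_comp (isEtaleMor_of_repWith
        (repWith_mono (fun _ _ g (_ : IsOpenImmersion g) => (inferInstance : Etale g)) hjV))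
        (isEtaleMor_of_isPullback hV' hU hV' (IsPullback.of_hasPullback f' f').flip het)
    · change IsEtaleMor (ι ≫ e₁)
      rw [he₁ι]
      exact isEtaleMor_id V
  -- base changes of `f` along schemes
  have hf : ∀ ⦃T : Over S⦄ (ξ : (yon S).obj T ⟶ W) ⦃P : Sp S⦄ (x : P ⟶ V) (y : P ⟶ (yon S).obj T),
      IsPullback x y f ξ → IsAlgSpace P ∧ IsEtaleMor y := by
    intro T ξ P x y sqP
    choose Tt h h1 h2 h3 hl using exists_local_lift sq₀ ξ
    have hT : ∀ t, IsAlgSpace ((yon S).obj (Tt t)) := fun t => IsAlgSpace.yon_obj _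
    have key : ∀ t (Q : Sp S) (q : Q ⟶ P) (s : Q ⟶ (yon S).obj (Tt t)),
        IsPullback q s y ((yon S).map (h t)) → IsAlgSpace Q ∧ IsEtaleMor s := by
      intro t Q q s sqQ
      have big := sqQ.paste_horiz sqP
      rcases hl t with ⟨l, hl⟩ | ⟨l, hl⟩
      · have sq' := (IsPullback.of_hasPullback e₁ l).paste_horiz sqK
        rw [hl] at sq'
        exact isAlgSpace_and_isEtaleMor_of_iso sq' big (isAlgSpace_pullback hE (hT t) hV e₁ l)
          (isEtaleMor_of_isPullback hE hV (hT t) (IsPullback.of_hasPullback e₁ l) he₁)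
      · have sq' := (IsPullback.of_hasPullback f' l).paste_horiz sqj
        rw [hl] at sq'
        exact isAlgSpace_and_isEtaleMor_of_iso sq' big (isAlgSpace_pullback hV' (hT t) hU f' l)
          (isEtaleMor_of_isPullback hV' hU (hT t) (IsPullback.of_hasPullback f' l) het)
    have hcov : IsFppfCover (fun t => (yon S).obj (Tt t)) (fun t => (yon S).map (h t)) := by
      refine ⟨fun t => ⟨locP_of_repWith ((repWith_yon_map_iff (P := (@Flat : MorphismProperty Scheme.{u})) _).2
          (h1 t)),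
        locP_of_repWith ((repWith_yon_map_iff (P := (@LocallyOfFinitePresentation : MorphismProperty Scheme.{u})) _).2
          (h2 t))⟩, fun z => ?_⟩
      obtain ⟨z, rfl⟩ := (Points.schemeHomeo T).surjective z
      obtain ⟨r, hr⟩ := h3 z
      exact ⟨z, Points.schemeHomeo _ r, by rw [Points.map_yon_map_apply, hr]⟩
    have hTs : IsAlgSpace ((yon S).obj T) := IsAlgSpace.yon_obj T
    have hP : IsAlgSpace P := Groth.Agent.S10138.result S (⟨_, hTs⟩ : Space S)
      (fun t => (⟨_, hT t⟩ : Space S)) (fun t => (yon S).map (h t)) hcov P y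
      fun t Q q s sqQ => (key t Q q s sqQ).1
    refine ⟨hP, (locP_etale_iff hTs).1 ?_⟩
    exact (isLocalOnBase_fpqc_locP_of_descendsAlong S @Etale (fun t => (yon S).obj (Tt t))
      (fun t => (yon S).map (h t)) hTs hT (isFpqcCover_of_isFppfCover hTs hT hcov) y hP
      (fun t => pullback y ((yon S).map (h t))) (fun t => pullback.snd y _) (fun t => pullback.fst y _)
      (fun t => (key t _ _ _ (IsPullback.of_hasPullback y _)).1)
      fun t => IsPullback.of_hasPullback y _).2
      fun t => (locP_etale_iff (hT t)).2 (key t _ _ _ (IsPullback.of_hasPullback y _)).2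
  -- `W` is an algebraic space
  let X₁ : ULift.{u} Bool → Sp S := fun b => match b with
    | ⟨false⟩ => U
    | ⟨true⟩ => V
  let n₁ : ∀ b, X₁ b ⟶ W := fun b => match b with
    | ⟨false⟩ => j
    | ⟨true⟩ => f
  have hX₁ : ∀ b, IsAlgSpace (X₁ b) := by rintro ⟨_ | _⟩ <;> assumption
  have hcX := coproductIsCoproduct X₁
  have hX : IsAlgSpace (∐ X₁) := Groth.Agent.S9881.result S X₁ hX₁ (Cofan.mk _ (Sigma.ι X₁)) hcX
  have hWcov := points_cover sq₀
  have hW : IsAlgSpace W := by
    refine isAlgSpace_of_repBySp_etale_cover hX (Sigma.desc n₁) ((repBySpWith_hom_iff _ _).2 ?_)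
    intro T ξ P x y sqP
    let Q : ULift.{u} Bool → Sp S := fun b => pullback (Sigma.ι X₁ b) x
    let mQ : ∀ b, Q b ⟶ P := fun b => pullback.snd (Sigma.ι X₁ b) x
    have hmQ : ∀ b, RepWith @IsOpenImmersion (mQ b) := fun b =>
      repWith_of_isPullback (IsPullback.of_hasPullback (Sigma.ι X₁ b) x)
        (repWith_mono (fun _ _ g (hg : IsOpenImmersion g ∧ IsClosedImmersion g) => hg.1)
          (repWith_inj (Cofan.mk _ (Sigma.ι X₁)) hcX b))
    have hsQ : ∀ p : Points P, ∃ b, p ∈ Set.range (Points.map (mQ b)) := fun p => by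
      obtain ⟨b, hb⟩ := exists_mem_range_inj (Cofan.mk _ (Sigma.ι X₁)) hcX (Points.map x p)
      exact ⟨b, by rw [range_map_of_isPullback (IsPullback.of_hasPullback (Sigma.ι X₁ b) x)]; exact hb⟩
    have hQ : ∀ b, IsAlgSpace (Q b) ∧ IsEtaleMor (mQ b ≫ y) := by
      intro b
      have sqb := (IsPullback.of_hasPullback (Sigma.ι X₁ b) x).paste_vert sqP
      rw [Sigma.ι_desc] at sqb
      rcases b with ⟨_ | _⟩
      · have ho : RepWith @IsOpenImmersion (mQ ⟨false⟩ ≫ y) := repWith_of_isPullback sqb hj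
        exact ⟨isAlgSpace_of_representable (IsAlgSpace.yon_obj T) _ ho.rep, isEtaleMor_of_repWith
          (repWith_mono (fun _ _ g (_ : IsOpenImmersion g) => (inferInstance : Etale g)) ho)⟩
      · exact hf ξ _ _ sqb
    refine ⟨isAlgSpace_of_opens (fun b => (hQ b).1) mQ hmQ hsQ, fun z => ?_,
      isEtaleMor_of_opens mQ hmQ hsQ fun b => (hQ b).2⟩
    rcases hWcov (Points.map ξ z) with ⟨v, hv⟩ | ⟨v, hv⟩
    · obtain ⟨p, -, hp⟩ := exists_point_isPullback sqP (Points.map (Sigma.ι X₁ ⟨true⟩) v) z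
        (by rw [← Points.map_comp, Sigma.ι_desc]; exact hv)
      exact ⟨p, hp⟩
    · obtain ⟨p, -, hp⟩ := exists_point_isPullback sqP (Points.map (Sigma.ι X₁ ⟨false⟩) v) z
        (by rw [← Points.map_comp, Sigma.ι_desc]; exact hv)
      exact ⟨p, hp⟩
  refine ⟨hj, sqj, hW, ?_, ?_⟩
  · intro U₀ φ hφ
    refine ⟨hW.representable_from_yon _, fun T Z ξ fst snd sq => ?_⟩
    obtain ⟨-, he⟩ := hf ξ _ _ (IsPullback.of_hasPullback f ξ)
    let r : (yon S).obj Z ⟶ pullback f ξ := pullback.lift (fst ≫ φ) ((yon S).map snd)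
      (by rw [Category.assoc]; exact sq.w)
    have sq' : IsPullback fst r φ (pullback.fst f ξ) :=
      IsPullback.of_bot (by rw [pullback.lift_snd]; exact sq) (by rw [pullback.lift_fst])
        (IsPullback.of_hasPullback f ξ)
    refine (isEtaleMor_yon_map_iff _).1 ?_
    rw [← pullback.lift_snd (fst ≫ φ) ((yon S).map snd) (by rw [Category.assoc]; exact sq.w)]
    exact isEtaleMor_comp he (isEtaleMor_of_repWith (repWith_of_isPullback sq' hφ))
  · intro X v₁ v₂ e hx
    obtain ⟨g, hg⟩ := (exists_factor_iff hι (sqK.lift v₂ v₁ e.symm)).2 (by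
      rintro _ ⟨x, rfl⟩
      refine (hEcov _).resolve_left ?_
      rintro ⟨r, hr⟩
      refine hx x ⟨Points.map f' (Points.map (pullback.fst f' f') r), ?_⟩
      have h1 : Points.map v₁ x = Points.map (ρ ≫ e₁) r := by
        rw [Points.map_comp, hr, ← Points.map_comp, sqK.lift_snd]
      rw [Points.map_comp v₁, h1, he₁ρ]
      simp only [← Points.map_comp, Category.assoc, sq₀.w])
    have h1 := sqK.lift_snd v₂ v₁ e.symm
    have h2 := sqK.lift_fst v₂ v₁ e.symm
    rw [← hg, Category.assoc] at h1 h2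
    rw [he₁ι, Category.comp_id] at h1
    rw [he₂ι, Category.comp_id] at h2
    exact h1.symm.trans h2

/-- The elementary distinguished square. -/
theorem isElemDistSq {U V V' W : Sp S} (hU : IsAlgSpace U) (hV : IsAlgSpace V) (hV' : IsAlgSpace V')
    {jV : V' ⟶ V} (hjV : RepWith @IsOpenImmersion jV) {f' : V' ⟶ U} (het : IsEtaleMor f')
    {f : V ⟶ W} {j : U ⟶ W} (sq₀ : IsPushout jV f' f j) : IsElemDistSq j f := by
  obtain ⟨hj, -, hW, hf, heq⟩ := main hU hV hV' hjV het sq₀
  have hclosed : IsClosed (Set.range (Points.map j))ᶜ := by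
    rw [isClosed_compl_iff]
    exact (isOpenMap_map_of_isEtaleMor hU (isEtaleMor_of_repWith
      (repWith_mono (fun _ _ g (_ : IsOpenImmersion g) => (inferInstance : Etale g)) hj))).isOpen_range
  obtain ⟨T, i, hT, hi⟩ := AlgSpRegLib.exists_isRedInduced hW _ hclosed
  have hmem : ∀ z : Points T, Points.map i z ∉ Set.range (Points.map j) := fun z hz =>
    (hi.2.1.subset ⟨z, rfl⟩) hz
  have sq := IsPullback.of_hasPullback i f
  have hP : IsAlgSpace (pullback i f) := isAlgSpace_pullback hT hV hW i f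
  haveI : Mono (pullback.fst i f) := mono_of_injective fun A a b e => by
    refine pullback.hom_ext e (heq _ _ ?_ fun x => ?_)
    · rw [Category.assoc, Category.assoc, ← pullback.condition, reassoc_of% e]
    · rw [Category.assoc, ← pullback.condition, ← Category.assoc, Points.map_comp]
      exact hmem _
  refine ⟨hj, hf, T, pullback i f, i, pullback.fst i f, pullback.snd i f, hi, sq, ?_⟩
  refine isIso_of_mono_etale_surjective hP hT _ (isEtaleMor_of_isPullback hV hW hT sq.flip hf) fun z => ?_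
  rcases points_cover sq₀ (Points.map i z) with ⟨v, hv⟩ | h
  · obtain ⟨p, hp, -⟩ := exists_point_isPullback sq z v hv.symm
    exact ⟨p, hp⟩
  · exact absurd h (hmem z)

end ElemGlueLib
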